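import Cfsg.Agent.Lib.Helper9.TC2Cox
import Cfsg.Agent.Lib.Helper9.TC2Aux
import Cfsg.Agent.Lib.Helper9.TC2BSGS
import Cfsg.Agent.Lib.Helper9.TC2Pack
import Cfsg.Agent.Lib.Helper9.TCData.Sz8CX.P0

set_option autoImplicit false
set_option maxRecDepth 100000

namespace Cfsg.Agent.Helper9.TCData.Sz8CX
open Cfsg.Agent.Helper9.TC2
/-- The rotated relators. -/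
noncomputable def rotT : WT := (WT.node 2 (WT.node 1 (WT.leaf [0, 2, 1, 1, 2, 1, 1, 0, 3, 0, 0, 3]) (WT.leaf [1, 3, 0, 3, 0, 0, 3, 0, 2, 1, 2, 1, 1, 2])) (WT.node 3 (WT.leaf [0]) (WT.node 4 (WT.leaf [0, 2, 0, 3, 0, 3, 0, 0, 2, 0, 3, 0, 3, 0, 0, 2, 0, 3, 0, 3, 0, 0, 2, 0, 3, 0, 3, 0, 0, 2, 0, 3, 0, 3, 0, 0, 2, 0, 3, 0, 3, 0, 0, 2, 0, 3, 0, 3, 0]) (WT.leaf [0, 3, 0, 0, 3, 0]))))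

/-- The sources of the rotated relators: relator and rotation. -/
def rotSrc : List (ℕ × ℕ) := [(4, 5), (5, 12), (16, 0), (14, 0), (12, 0)]

/-- The relators, as words of columns. -/
def relWords : List (List ℕ) := [[0, 0, 0, 0, 0], [2, 2, 2, 2, 2, 2, 2], [3, 0, 2, 1, 2, 0, 3, 1, 3, 0, 2, 1, 2, 0, 3, 1, 3, 0, 2, 1, 2, 0, 3, 1, 3, 0, 2, 1, 2, 0, 3, 1, 3, 0, 2, 1, 2, 0, 3, 1, 3, 0, 2, 1, 2, 0, 3, 1, 3, 0, 2, 1, 2, 0, 3, 1, 3, 0, 2, 1, 2, 0, 3, 1, 3, 0, 2, 1, 2, 0, 3, 1, 3, 0, 2, 1, 2, 0, 3, 1, 3, 0, 2, 1, 2, 0, 3, 1, 3, 0, 2, 1, 2, 0, 3, 1, 3, 0, 2, 1, 2, 0, 3, 1, 3, 0, 2, 1, 2, 0, 3, 1, 3, 0, 2, 1, 2, 0, 3, 1, 3, 0, 2, 1, 2, 0, 3, 1, 1], [3, 1, 2, 1, 2, 0, 3, 0, 3,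 1, 2, 1, 2, 0, 3, 0, 3, 1, 2, 1, 2, 0, 3, 0, 3, 1, 2, 1, 2, 0, 3, 0, 3, 1, 2, 1, 2, 0, 3, 0, 3, 1, 2, 1, 2, 0, 3, 0, 3, 1, 2, 1, 2, 0, 3, 0, 3, 1, 2, 1, 2, 0, 3, 0, 3, 3, 3, 3, 3], [0, 3, 0, 0, 3, 0, 2, 1, 1, 2, 1, 1], [0, 3, 0, 0, 3, 0, 2, 1, 2, 1, 1, 2, 1, 3], [1, 2, 1, 2, 1, 2, 1, 2, 0, 3, 0, 3, 0, 3, 0, 3], [1, 2, 1, 2, 1, 2, 1, 2, 0, 3, 0, 3, 0, 3, 0, 3], [0, 2, 0, 3, 0, 3, 0, 0, 2, 0, 3, 0, 3, 0, 0, 2, 0, 3, 0, 3, 0, 0, 2, 0, 3, 0, 3, 0, 0, 2, 0, 3, 0, 3, 0, 0, 2, 0, 3, 0, 3, 0, 0, 2, 0, 3, 0, 3, 0, 2, 1, 2, 1, 3, 1, 1, 2, 1, 2, 1, 3, 1, 1, 2, 1, 2, 1, 3, 1, 1, 2, 1, 2, 1, 3, 1, 1, 2, 1, 2, 1, 3, 1, 1, 2, 1, 2, 1, 3, 1, 1, 2, 1, 2, 1, 3, 1, 1], [0, 2, 0, 3, 0,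 3, 0, 0, 2, 0, 3, 0, 3, 0, 0, 2, 0, 3, 0, 3, 0, 0, 2, 0, 3, 0, 3, 0, 0, 2, 0, 3, 0, 3, 0, 0, 2, 0, 3, 0, 3, 0, 0, 2, 0, 3, 0, 3, 0, 2, 1, 2, 1, 2, 1, 3, 1, 1, 2, 1, 2, 1, 3, 1, 1, 2, 1, 2, 1, 3, 1, 1, 2, 1, 2, 1, 3, 1, 1, 2, 1, 2, 1, 3, 1, 1, 2, 1, 2, 1, 3, 1, 1, 2, 1, 2, 1, 3, 1, 3], [0, 0, 3, 0, 3, 0, 2, 2, 0, 0, 3, 0, 3, 0, 2, 2, 0, 0, 3, 0, 3, 0, 2, 2, 0, 0, 3, 0, 3, 0, 2, 2, 0, 0, 3, 0, 3, 0, 2, 2, 0, 3, 3, 1, 2, 1, 2, 1, 1, 3, 3, 1, 2, 1, 2, 1, 1, 3, 3, 1, 2, 1, 2, 1, 1, 3, 3, 1, 2, 1, 2, 1, 1, 3, 3, 1, 2, 1, 2, 1, 1, 1], [0, 0, 3, 0, 3, 0, 2, 2, 0, 0, 3, 0, 3, 0, 2, 2, 0, 0, 3, 0, 3, 0, 2, 2, 0, 0, 3, 0, 3, 0, 2, 2, 0, 0, 3, 0, 3, 0, 2, 1, 2, 1, 2, 1, 1, 3, 3,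 1, 2, 1, 2, 1, 1, 3, 3, 1, 2, 1, 2, 1, 1, 3, 3, 1, 2, 1, 2, 1, 1, 3, 3, 1, 2, 1, 2, 1, 1, 3], [0, 3, 0, 0, 3, 0], [1, 2, 1, 2, 1, 2, 1, 2], [0, 2, 0, 3, 0, 3, 0, 0, 2, 0, 3, 0, 3, 0, 0, 2, 0, 3, 0, 3, 0, 0, 2, 0, 3, 0, 3, 0, 0, 2, 0, 3, 0, 3, 0, 0, 2, 0, 3, 0, 3, 0, 0, 2, 0, 3, 0, 3, 0], [0, 0, 3, 0, 3, 0, 2, 2, 0, 0, 3, 0, 3, 0, 2, 2, 0, 0, 3, 0, 3, 0, 2, 2, 0, 0, 3, 0, 3, 0, 2, 2, 0, 0, 3, 0, 3, 0, 2, 2], [0]]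

/-- The words checked on the permutation model. -/
def mwords : List (List ℕ) := [[0, 0, 0, 0, 0], [2, 2, 2, 2, 2, 2, 2], [3, 0, 2, 1, 2, 0, 3, 1, 3, 0, 2, 1, 2, 0, 3, 1, 3, 0, 2, 1, 2, 0, 3, 1, 3, 0, 2, 1, 2, 0, 3, 1, 3, 0, 2, 1, 2, 0, 3, 1, 3, 0, 2, 1, 2, 0, 3, 1, 3, 0, 2, 1, 2, 0, 3, 1, 3, 0, 2, 1, 2, 0, 3, 1, 3, 0, 2, 1, 2, 0, 3, 1, 3, 0, 2, 1, 2, 0, 3, 1, 3, 0, 2, 1, 2, 0, 3, 1, 3, 0, 2, 1, 2, 0, 3, 1, 3, 0, 2, 1, 2, 0, 3, 1, 3, 0, 2, 1, 2, 0, 3, 1, 3, 0, 2, 1, 2, 0, 3, 1, 3, 0, 2, 1, 2, 0, 3, 1, 1], [3, 1, 2, 1, 2, 0, 3, 0, 3, 1, 2, 1, 2, 0, 3, 0, 3, 1, 2, 1, 2, 0, 3, 0, 3, 1, 2, 1, 2, 0, 3, 0, 3, 1, 2, 1, 2, 0, 3, 0, 3, 1, 2, 1, 2, 0, 3, 0, 3, 1, 2, 1, 2, 0,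 3, 0, 3, 1, 2, 1, 2, 0, 3, 0, 3, 3, 3, 3, 3], [0, 3, 0, 0, 3, 0, 2, 1, 1, 2, 1, 1], [0, 3, 0, 0, 3, 0, 2, 1, 2, 1, 1, 2, 1, 3], [1, 2, 1, 2, 1, 2, 1, 2, 0, 3, 0, 3, 0, 3, 0, 3], [1, 2, 1, 2, 1, 2, 1, 2, 0, 3, 0, 3, 0, 3, 0, 3], [0, 2, 0, 3, 0, 3, 0, 0, 2, 0, 3, 0, 3, 0, 0, 2, 0, 3, 0, 3, 0, 0, 2, 0, 3, 0, 3, 0, 0, 2, 0, 3, 0, 3, 0, 0, 2, 0, 3, 0, 3, 0, 0, 2, 0, 3, 0, 3, 0, 2, 1, 2, 1, 3, 1, 1, 2, 1, 2, 1, 3, 1, 1, 2, 1, 2, 1, 3, 1, 1, 2, 1, 2, 1, 3, 1, 1, 2, 1, 2, 1, 3, 1, 1, 2, 1, 2, 1, 3, 1, 1, 2, 1, 2, 1, 3, 1, 1], [0, 2, 0, 3, 0, 3, 0, 0, 2, 0, 3, 0, 3, 0, 0, 2, 0, 3, 0, 3, 0, 0, 2, 0, 3, 0, 3, 0, 0, 2, 0, 3, 0, 3, 0, 0, 2, 0, 3, 0, 3, 0, 0, 2, 0, 3, 0, 3, 0, 2,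 1, 2, 1, 2, 1, 3, 1, 1, 2, 1, 2, 1, 3, 1, 1, 2, 1, 2, 1, 3, 1, 1, 2, 1, 2, 1, 3, 1, 1, 2, 1, 2, 1, 3, 1, 1, 2, 1, 2, 1, 3, 1, 1, 2, 1, 2, 1, 3, 1, 3], [0, 0, 3, 0, 3, 0, 2, 2, 0, 0, 3, 0, 3, 0, 2, 2, 0, 0, 3, 0, 3, 0, 2, 2, 0, 0, 3, 0, 3, 0, 2, 2, 0, 0, 3, 0, 3, 0, 2, 2, 0, 3, 3, 1, 2, 1, 2, 1, 1, 3, 3, 1, 2, 1, 2, 1, 1, 3, 3, 1, 2, 1, 2, 1, 1, 3, 3, 1, 2, 1, 2, 1, 1, 3, 3, 1, 2, 1, 2, 1, 1, 1], [0, 0, 3, 0, 3, 0, 2, 2, 0, 0, 3, 0, 3, 0, 2, 2, 0, 0, 3, 0, 3, 0, 2, 2, 0, 0, 3, 0, 3, 0, 2, 2, 0, 0, 3, 0, 3, 0, 2, 1, 2, 1, 2, 1, 1, 3, 3, 1, 2, 1, 2, 1, 1, 3, 3, 1, 2, 1, 2, 1, 1, 3, 3, 1, 2, 1, 2, 1, 1, 3, 3, 1, 2, 1, 2, 1, 1, 3], [0, 3, 0, 0, 3, 0], [1, 2, 1, 2, 1, 2,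 1, 2], [0, 2, 0, 3, 0, 3, 0, 0, 2, 0, 3, 0, 3, 0, 0, 2, 0, 3, 0, 3, 0, 0, 2, 0, 3, 0, 3, 0, 0, 2, 0, 3, 0, 3, 0, 0, 2, 0, 3, 0, 3, 0, 0, 2, 0, 3, 0, 3, 0], [0, 0, 3, 0, 3, 0, 2, 2, 0, 0, 3, 0, 3, 0, 2, 2, 0, 0, 3, 0, 3, 0, 2, 2, 0, 0, 3, 0, 3, 0, 2, 2, 0, 0, 3, 0, 3, 0, 2, 2], [0]]

/-- The table. -/
noncomputable def tab : Tab where
  k := 4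
  inv := fun c => (bif Nat.beq c 0 then 1 else (bif Nat.beq c 1 then 0 else (bif Nat.beq c 2 then 3 else (bif Nat.beq c 3 then 2 else c))))
  N := 6
  n := 1
  Tmax := 22
  wn := 3
  mn := 0x7
  subs := []
  rot := fun i => rotT.getF i
  ent := fun c i => bget2 entT_0 1 11 8 0xff 2047 c i
  cer := fun c i => bget2 cerT_0 1 11 6 0x3f 2047 c i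
  tau := fun c i => bget2 tauT_0 1 14 1 0x1 16383 c i
  lk := fun i => bget lkT_0 11 8 0xff 2047 i
  lc := fun i => bget lcT_0 10 10 0x3ff 1023 i
  pn := fun i => bget pnT_0 11 5 0x1f 2047 i
  cls := fun i => bget clsT_0 14 1 0x1 16383 i
  rep := fun i => bget repT_0 14 1 0x1 16383 i

end Cfsg.Agent.Helper9.TCData.Sz8CX
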